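import Groth.Agent.Lib.SheafCoh.OverLan
import Groth.Agent.Lib.SheafCoh.Push
import Mathlib.CategoryTheory.ConnectedComponents
import Mathlib.CategoryTheory.Abelian.GrothendieckAxioms.Basic
import Mathlib.CategoryTheory.Limits.Preserves.Shapes.Pullbacks
import Mathlib.CategoryTheory.Limits.Preserves.Shapes.Equalizers
import Mathlib.Algebra.Category.Grp.EnoughInjectives

/-! # Pseudo-filtered colimits of abelian groups are exact -/

set_option autoImplicit false

universe u

open CategoryTheory CategoryTheory.Limits Opposite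

namespace GrothLib.PseudoFilt25

open GrothLib

variable {I : Type u} [SmallCategory I]
  (hspan : ∀ {i j k : I} (f : i ⟶ j) (g : i ⟶ k), ∃ (l : I) (f' : j ⟶ l) (g' : k ⟶ l), f ≫ f' = g ≫ g')
  (hcoeq : ∀ {i j : I} (f g : i ⟶ j), ∃ (k : I) (h : j ⟶ k), f ≫ h = g ≫ h)

/-- The component of an object. -/
abbrev cc (i : I) : CategoryTheory.ConnectedComponents I := Quotient.mk'' i

theorem mk_eq {i j : I} (f : i ⟶ j) : cc i = cc j :=
  Quotient.sound' (Zigzag.of_hom f)

include hspan in
theorem exists_cospan {a b : I} (h : Zigzag a b) : ∃ (c : I) (_ : a ⟶ c), Nonempty (b ⟶ c) := by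
  induction h with
  | refl => exact ⟨a, 𝟙 a, ⟨𝟙 a⟩⟩
  | @tail b d _ h ih =>
    obtain ⟨c, fa, ⟨fb⟩⟩ := ih
    rcases h with ⟨⟨g⟩⟩ | ⟨⟨g⟩⟩
    · obtain ⟨l, fc, fd, -⟩ := hspan fb g
      exact ⟨l, fa ≫ fc, ⟨fd⟩⟩
    · exact ⟨c, fa, ⟨g ≫ fb⟩⟩

include hspan hcoeq in
theorem isFiltered_component (J : CategoryTheory.ConnectedComponents I) : IsFiltered J.Component := by
  have hne : Nonempty J.Component := inferInstance
  refine { cocone_objs := fun a b => ?_, cocone_maps := fun a b f g => ?_, nonempty := hne }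
  · obtain ⟨c, fa, ⟨fb⟩⟩ := exists_cospan @hspan (Quotient.exact' (a.2.trans b.2.symm))
    exact ⟨⟨c, (mk_eq fa).symm.trans a.2⟩, ObjectProperty.homMk fa, ObjectProperty.homMk fb, trivial⟩
  · obtain ⟨k, h, e⟩ := hcoeq f.hom g.hom
    exact ⟨⟨k, (mk_eq h).symm.trans b.2⟩, ObjectProperty.homMk h, ObjectProperty.hom_ext _ e⟩

include hspan hcoeq in
theorem mono_colimMap {F G : I ⥤ AddCommGrpCat.{u}} (f : F ⟶ G) [Mono f] : Mono (colimMap f) := by
  let Q := Injective.under (colimit F)
  have hext : ∀ (J : CategoryTheory.ConnectedComponents I), ∃ β : J.ι ⋙ G ⟶ (Functor.const _).obj Q,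
      ∀ a : J.Component, f.app a.1 ≫ β.app a = colimit.ι F a.1 ≫ Injective.ι (colimit F) := fun J => by
    have := isFiltered_component @hspan @hcoeq J
    let fJ : J.ι ⋙ F ⟶ J.ι ⋙ G := Functor.whiskerLeft J.ι f
    have : Mono fJ := by
      have : ∀ a, Mono (fJ.app a) := fun a => inferInstanceAs (Mono (f.app a.1))
      exact NatTrans.mono_of_mono_app _
    have hm : Mono ((colim : (J.Component ⥤ AddCommGrpCat.{u}) ⥤ _).map fJ) := Functor.map_mono colim fJ
    let c : Cocone (J.ι ⋙ F) :=
      ((colimit.cocone F).whisker J.ι).extend (Injective.ι (colimit F))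
    let δ₀ : colimit (J.ι ⋙ F) ⟶ Q := colimit.desc _ c
    let γ : colimit (J.ι ⋙ G) ⟶ Q := @Injective.factorThru _ _ _ _ _ _ δ₀ (colimMap fJ) hm
    refine ⟨{ app := fun a => colimit.ι (J.ι ⋙ G) a ≫ γ
              naturality := fun a b g => ?_ }, fun a => ?_⟩
    · rw [← Category.assoc, colimit.w]
      exact (Category.comp_id _).symm
    · change f.app a.1 ≫ colimit.ι (J.ι ⋙ G) a ≫ γ = _
      rw [← Category.assoc]
      refine (congrArg (· ≫ γ) (ι_colimMap fJ a).symm).trans ?_
      rw [Category.assoc, @Injective.comp_factorThru _ _ _ _ _ _ δ₀ (colimMap fJ) hm, colimit.ι_desc]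
      rfl
  choose β hβ using hext
  have key : ∀ (J J' : CategoryTheory.ConnectedComponents I) (e : J = J') (i : I) (h : cc i = J)
      (h' : cc i = J'), (β J).app ⟨i, h⟩ = (β J').app ⟨i, h'⟩ := by
    rintro J J' rfl i h h'
    rfl
  let d : Cocone G :=
    { pt := Q
      ι :=
        { app := fun i => (β (cc i)).app ⟨i, rfl⟩
          naturality := fun i j g => by
            refine Eq.trans ?_ (Category.comp_id _).symm
            have hn := (β (cc i)).naturality
              (ObjectProperty.homMk g : (⟨i, rfl⟩ : (cc i).Component) ⟶ ⟨j, (mk_eq g).symm⟩)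
            refine Eq.trans ?_ (hn.trans (Category.comp_id _))
            exact congrArg (G.map g ≫ ·) (key _ _ (mk_eq g).symm j rfl _) } }
  have he : colimMap f ≫ colimit.desc G d = Injective.ι (colimit F) := by
    refine colimit.hom_ext fun i => ?_
    rw [← Category.assoc, ι_colimMap, Category.assoc, colimit.ι_desc]
    exact hβ _ ⟨i, rfl⟩
  exact mono_of_mono_fac he

include hspan hcoeq in
theorem preservesFiniteLimits_colim :
    PreservesFiniteLimits (colim : (I ⥤ AddCommGrpCat.{u}) ⥤ AddCommGrpCat.{u}) := by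
  refine ((Functor.preservesFiniteLimits_tfae (colim : (I ⥤ AddCommGrpCat.{u}) ⥤ _)).out 0 3).1 fun S hS => ?_
  have := hS.mono_f
  have := hS.epi_g
  exact ⟨hS.exact.map_of_epi_of_preservesCokernel colim inferInstance inferInstance,
    mono_colimMap @hspan @hcoeq S.f⟩

variable {C D : Type u} [SmallCategory C] [SmallCategory D] (u : C ⥤ D) [HasPullbacks C] [HasEqualizers C]
  [PreservesLimitsOfShape WalkingCospan u] [PreservesLimitsOfShape WalkingParallelPair u]

theorem preservesFiniteLimits_colim_costructuredArrow (W : Dᵒᵖ) :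
    PreservesFiniteLimits (colim : (CostructuredArrow u.op W ⥤ AddCommGrpCat.{u}) ⥤ AddCommGrpCat.{u}) := by
  refine preservesFiniteLimits_colim (fun {i j k} f g => ?_) (fun {i j} f g => ?_)
  · let p₁ : j.left.unop ⟶ i.left.unop := f.left.unop
    let p₂ : k.left.unop ⟶ i.left.unop := g.left.unop
    have w₁ : j.hom.unop ≫ u.map p₁ = i.hom.unop := congrArg Quiver.Hom.unop (CostructuredArrow.w f)
    have w₂ : k.hom.unop ≫ u.map p₂ = i.hom.unop := congrArg Quiver.Hom.unop (CostructuredArrow.w g)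
    let hl := isLimitOfHasPullbackOfPreservesLimit u p₁ p₂
    let e : W.unop ⟶ u.obj (pullback p₁ p₂) :=
      PullbackCone.IsLimit.lift hl j.hom.unop k.hom.unop (w₁.trans w₂.symm)
    have e₁ : e ≫ u.map (pullback.fst p₁ p₂) = j.hom.unop := PullbackCone.IsLimit.lift_fst hl _ _ _
    have e₂ : e ≫ u.map (pullback.snd p₁ p₂) = k.hom.unop := PullbackCone.IsLimit.lift_snd hl _ _ _
    refine ⟨CostructuredArrow.mk (Y := op (pullback p₁ p₂)) (e.op : u.op.obj (op (pullback p₁ p₂)) ⟶ W),
      CostructuredArrow.homMk (pullback.fst p₁ p₂).op (Quiver.Hom.unop_inj e₁),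
      CostructuredArrow.homMk (pullback.snd p₁ p₂).op (Quiver.Hom.unop_inj e₂), ?_⟩
    exact CostructuredArrow.hom_ext _ _ (Quiver.Hom.unop_inj pullback.condition)
  · let p : j.left.unop ⟶ i.left.unop := f.left.unop
    let q : j.left.unop ⟶ i.left.unop := g.left.unop
    have w₁ : j.hom.unop ≫ u.map p = i.hom.unop := congrArg Quiver.Hom.unop (CostructuredArrow.w f)
    have w₂ : j.hom.unop ≫ u.map q = i.hom.unop := congrArg Quiver.Hom.unop (CostructuredArrow.w g)
    let hl := isLimitOfHasEqualizerOfPreservesLimit u p q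
    let e : W.unop ⟶ u.obj (equalizer p q) := Fork.IsLimit.lift hl j.hom.unop (w₁.trans w₂.symm)
    have e₁ : e ≫ u.map (equalizer.ι p q) = j.hom.unop :=
      Fork.IsLimit.lift_ι' hl j.hom.unop (w₁.trans w₂.symm)
    refine ⟨CostructuredArrow.mk (Y := op (equalizer p q)) (e.op : u.op.obj (op (equalizer p q)) ⟶ W),
      CostructuredArrow.homMk (equalizer.ι p q).op (Quiver.Hom.unop_inj e₁), ?_⟩
    exact CostructuredArrow.hom_ext _ _ (Quiver.Hom.unop_inj (equalizer.condition p q))

theorem preservesFiniteLimits_lan :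
    PreservesFiniteLimits (u.op.lan : (Cᵒᵖ ⥤ AddCommGrpCat.{u}) ⥤ Dᵒᵖ ⥤ AddCommGrpCat.{u}) := by
  refine ⟨fun K _ _ => ?_⟩
  refine preservesLimitsOfShape_of_evaluation _ K fun W => ?_
  have := preservesFiniteLimits_colim_costructuredArrow u W
  exact preservesLimitsOfShape_of_natIso (lanEvaluationIsoColim _ u.op W).symm

theorem preservesFiniteLimits_sheafPullback (J : GrothendieckTopology C) (K : GrothendieckTopology D)
    [u.IsContinuous J K] : PreservesFiniteLimits (u.sheafPullback AddCommGrpCat.{u} J K) :=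
  have := preservesFiniteLimits_lan u
  have : PreservesFiniteLimits (Functor.sheafPullbackConstruction.sheafPullback u AddCommGrpCat.{u} J K) :=
    have : PreservesFiniteLimits (u.op.lan ⋙ presheafToSheaf K AddCommGrpCat.{u}) :=
      comp_preservesFiniteLimits _ _
    comp_preservesFiniteLimits (sheafToPresheaf _ _) _
  preservesFiniteLimits_of_natIso
    (Functor.sheafPullbackConstruction.sheafPullbackIso u AddCommGrpCat.{u} J K).symm

end GrothLib.PseudoFilt25
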